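import Groth.Agent.PicFam.Basic
import Groth.Agent.W7See.Trivial
import Groth.Agent.W7See.Point
import Groth.Agent.W7Cech.BCLin
import Groth.Agent.W7Cech.UnitIso

/-!
Invertible modules on a product with a proper geometrically integral variety with vanishing `H¹(O)`.
-/

set_option autoImplicit false
set_option backward.isDefEq.respectTransparency false
set_option backward.isDefEq.respectTransparency.types false
set_option linter.style.haveILetI false
set_option maxHeartbeats 1000000

universe u

open CategoryTheory CategoryTheory.Limits AlgebraicGeometry TopologicalSpace Opposite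

noncomputable section

namespace Groth.Agent.PicFam

section closed

variable {X Y : Scheme.{u}} (f : X ⟶ Y) [IsProper f] [Flat f] [LocallyOfFinitePresentation f]
  [GeometricallyIntegral f]

omit [Flat f] [LocallyOfFinitePresentation f] in
theorem bijective_fiber_of_geomIntegral (y : Y) :
    Function.Bijective ((f.fiberToSpecResidueField y).appTop.hom.comp
      (Scheme.ΓSpecIso (Y.residueField y)).inv.hom) := by
  haveI := W7See.geometricallyConnected_of_geometricallyIntegral f
  exact W7See.bijective_fiber f y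

/-- triviality on the fibres is a closed condition, over any base -/
theorem isClosed_fiber_trivial {L : X.Modules} (hL : PicF.IsInvertible L) :
    IsClosed {y : Y | Nonempty (CohIII.fiberMod f L y ≅ Coh.structureModule (f.fiber y))} := by
  obtain ⟨L', hL', ⟨ε⟩⟩ := W7Hull.exists_tensor_inverse hL
  have hy := bijective_fiber_of_geomIntegral f
  have hset : {y : Y | Nonempty (CohIII.fiberMod f L y ≅ Coh.structureModule (f.fiber y))} =
      {y : Y | CohIII.fiberRank f L 0 y < 1}ᶜ ∩ {y : Y | CohIII.fiberRank f L' 0 y < 1}ᶜ := by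
    ext y
    obtain ⟨a⟩ := TMul.nonempty_pullTensorIso (f.fiberι y) L L'
    let j : CohB1.tensorMod (CohIII.fiberMod f L y) (CohIII.fiberMod f L' y) ≅ Coh.structureModule (f.fiber y) :=
      a ≪≫ (Scheme.Modules.pullback (f.fiberι y)).mapIso ε ≪≫ PicLoc.pullbackStructureIso (f.fiberι y)
    refine ⟨fun ⟨i⟩ => ⟨?_, ?_⟩, fun ⟨h1, h2⟩ => ?_⟩
    · exact not_lt.2 (W7See.fiberRank_eq_one f L y (hy y) i).ge
    · exact not_lt.2 (W7See.fiberRank_eq_one f L' y (hy y)
        ((TMul.leftUnitIso _).symm ≪≫ PicGrp.tensorModIso i.symm (Iso.refl _) ≪≫ j)).ge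
    · have hsec : ∀ M : X.Modules, ¬ CohIII.fiberRank f M 0 y < 1 → ∃ s : Γ(CohIII.fiberMod f M y, ⊤), s ≠ 0 := by
        intro M hM
        haveI : Nontrivial (Coh.HH (f.fiber y) (CohIII.fiberMod f M y) 0) :=
          Module.nontrivial_of_finrank_pos (R := Y.residueField y)
            (Nat.lt_of_not_le fun h => hM (Nat.lt_one_iff.2 (Nat.le_zero.1 h)))
        exact W7See.exists_ne_zero_of_nontrivial _
      obtain ⟨s, hs⟩ := hsec L h1
      obtain ⟨t, ht⟩ := hsec L' h2
      exact W7See.nonempty_iso_unit_of_sections (W7See.isUnit_of_bijective (hy y))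
        (PicLoc.isInvertible_pullback _ hL) (PicLoc.isInvertible_pullback _ hL') j hs ht
  rw [hset]
  exact (W7See.isOpen_fiberRank_lt_lfp f L hL 1).isClosed_compl.inter
    (W7See.isOpen_fiberRank_lt_lfp f L' hL' 1).isClosed_compl

/-- fibrewise isomorphism is a closed condition -/
theorem isClosed_fiber_iso {L M : X.Modules} (hL : PicF.IsInvertible L) (hM : PicF.IsInvertible M) :
    IsClosed {y : Y | Nonempty (CohIII.fiberMod f L y ≅ CohIII.fiberMod f M y)} := by
  obtain ⟨M', hM', ⟨ε⟩⟩ := W7Hull.exists_tensor_inverse hM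
  convert isClosed_fiber_trivial f (TMul.isInvertible_tensorMod hM' hL) using 1
  exact Set.ext fun y => (fiber_iso_iff f ε y).symm

/-- the pullback from the base is injective -/
theorem nonempty_iso_of_pullback_iso {L L' : Y.Modules} (hL : PicF.IsInvertible L) (hL' : PicF.IsInvertible L')
    (j : (Scheme.Modules.pullback f).obj L ≅ (Scheme.Modules.pullback f).obj L') : Nonempty (L ≅ L') := by
  have hb : ∀ W : Y.Opens, Function.Bijective (f.app W).hom :=
    W7See.app_bijective_of_local f fun y =>
      W7Hull.exists_nhd_app_bijective_of_lfp f y (bijective_fiber_of_geomIntegral f y)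
  let φ : Coh.structureModule Y ⟶ (Coh.push f).obj (Coh.structureModule X) :=
    SheafOfModules.unitToPushforwardObjUnit f.toRingCatSheafHom
  haveI : Epi φ := InvGen.epi_of_locally φ fun U t y hy => ⟨U, le_rfl, hy, (hb U).2 _⟩
  haveI : Mono φ := (QC.mono_iff_app_injective _).2 fun W s t hst => (hb W).1 hst
  haveI := isIso_of_mono_of_epi φ
  haveI := W7Cech.isIso_unit_of_invertible f (asIso φ).symm hL
  haveI := W7Cech.isIso_unit_of_invertible f (asIso φ).symm hL'
  exact ⟨asIso ((Scheme.Modules.pullbackPushforwardAdjunction f).unit.app L) ≪≫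
    (Scheme.Modules.pushforward f).mapIso j ≪≫
      (asIso ((Scheme.Modules.pullbackPushforwardAdjunction f).unit.app L')).symm⟩

end closed

variable {k : Type u} [Field k] {S T : Scheme.{u}}
  (s : S ⟶ Spec (CommRingCat.of k)) (t : T ⟶ Spec (CommRingCat.of k)) [IsProper t]

/-- vanishing of `H¹(O)` passes to the fibres of the product -/
theorem subsingleton_h1_fiber_fst (h1 : Subsingleton (Coh.HH T (Coh.structureModule T) 1)) (y : S) :
    Subsingleton (Coh.HH ((pullback.fst s t).fiber y) (Coh.structureModule ((pullback.fst s t).fiber y)) 1) := by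
  let p := pullback.fst s t
  let K := S.residueField y
  let ψ := Spec.preimage (S.fromSpecResidueField y ≫ s)
  letI : Algebra k K := ψ.hom.toAlgebra
  letI : T.Over (Spec (CommRingCat.of k)) := ⟨t⟩
  letI : (p.fiber y).Over (Spec (CommRingCat.of K)) := ⟨p.fiberToSpecResidueField y⟩
  haveI : CompactSpace ↥T := QuasiCompact.compactSpace_of_compactSpace t
  haveI : T.IsSeparated := by
    constructor
    rw [← terminal.comp_from t]
    infer_instance
  obtain ⟨ι, hι, W, hW, hcov⟩ := W7Cech.exists_cover T
  haveI := hι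
  have sq : IsPullback (p.fiberι y ≫ pullback.snd s t) (p.fiberToSpecResidueField y) t
      (Spec.map (CommRingCat.ofHom (algebraMap k K))) := by
    have h := (IsPullback.of_hasPullback p (S.fromSpecResidueField y)).paste_horiz
      (IsPullback.of_hasPullback s t).flip
    rw [← Spec.map_preimage (S.fromSpecResidueField y ≫ s)] at h
    exact h
  obtain ⟨e⟩ := W7Cech.nonempty_hh_flat_bc k K W hW hcov (p.fiberι y ≫ pullback.snd s t) sq
    (Coh.structureModule T) (QC.isQCoh_unit T) 1
  haveI : Subsingleton (TensorProduct k K (Coh.HH T (Coh.structureModule T) 1)) := by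
    haveI := h1
    infer_instance
  exact CohQC.hh_subsingleton_of_iso (PicLoc.pullbackStructureIso _) 1 e.toEquiv.subsingleton

variable [GeometricallyIntegral t] (σ : Spec (CommRingCat.of k) ⟶ S) (hσ : σ ≫ s = 𝟙 _)

include hσ in
/-- invertible modules on the product -/
theorem exists_box (h1 : Subsingleton (Coh.HH T (Coh.structureModule T) 1)) [ConnectedSpace S]
    {N : (pullback s t).Modules} (hN : PicF.IsInvertible N) :
    ∃ (L : S.Modules) (M : T.Modules), PicF.IsInvertible L ∧ PicF.IsInvertible M ∧
      Nonempty (N ≅ CohB1.tensorMod ((Scheme.Modules.pullback (pullback.fst s t)).obj L)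
        ((Scheme.Modules.pullback (pullback.snd s t)).obj M)) := by
  let p := pullback.fst s t
  let q := pullback.snd s t
  haveI : LocallyOfFinitePresentation t := InfLift.lfp_of_lft t
  haveI : LocallyOfFinitePresentation p := MorphismProperty.pullback_fst _ _ inferInstance
  haveI : Flat t := inferInstance
  haveI : Flat p := MorphismProperty.pullback_fst _ _ inferInstance
  haveI : IsProper p := MorphismProperty.pullback_fst _ _ inferInstance
  let σT : T ⟶ pullback s t := pullback.lift (t ≫ σ) (𝟙 T) (by rw [Category.assoc, hσ, Category.comp_id, Category.id_comp])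
  let M := (Scheme.Modules.pullback σT).obj N
  have hM : PicF.IsInvertible M := PicLoc.isInvertible_pullback _ hN
  have hqM : PicF.IsInvertible ((Scheme.Modules.pullback q).obj M) := PicLoc.isInvertible_pullback _ hM
  have hclop : IsClopen {y : S | Nonempty (CohIII.fiberMod p N y ≅ CohIII.fiberMod p ((Scheme.Modules.pullback q).obj M) y)} :=
    ⟨isClosed_fiber_iso p hN hqM, isOpen_fiber_iso p (subsingleton_h1_fiber_fst s t h1) hN hqM⟩
  let x₀ : Spec (CommRingCat.of k) := IsLocalRing.closedPoint k
  obtain ⟨⟨y₀, φ⟩, hφ⟩ : ∃ v, (Scheme.SpecToEquivOfField k S).symm v = σ := ⟨_, Equiv.symm_apply_apply _ σ⟩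
  have hσ' : Spec.map φ ≫ S.fromSpecResidueField y₀ = σ := hφ
  have hgs : S.fromSpecResidueField y₀ ≫ s ≫ σ = S.fromSpecResidueField y₀ := by
    let ψ := Spec.preimage (S.fromSpecResidueField y₀ ≫ s)
    have hψ : ψ ≫ φ = 𝟙 _ := Spec.map_injective (by
      rw [Spec.map_comp, Spec.map_id, Spec.map_preimage, ← Category.assoc, hσ', hσ])
    haveI : IsIso φ := by
      refine (ConcreteCategory.isIso_iff_bijective φ).2 ⟨φ.hom.injective, fun a => ⟨ψ.hom a, ?_⟩⟩
      exact congr(($hψ).hom a)
    rw [← cancel_epi (Spec.map φ), ← Category.assoc, ← Category.assoc, hσ', hσ, Category.id_comp]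
  have hy₀ : y₀ ∈ {y : S | Nonempty (CohIII.fiberMod p N y ≅ CohIII.fiberMod p ((Scheme.Modules.pullback q).obj M) y)} := by
    have he : p.fiberι y₀ ≫ q ≫ σT = p.fiberι y₀ := by
      refine pullback.hom_ext ?_ ?_
      · simp only [σT, Category.assoc, pullback.lift_fst]
        change p.fiberι y₀ ≫ q ≫ t ≫ σ = p.fiberι y₀ ≫ p
        rw [← Category.assoc q t σ, ← pullback.condition, Category.assoc, ← Category.assoc (p.fiberι y₀) p,
          p.fiber_fac y₀, Category.assoc, hgs]
      · simp only [σT, Category.assoc, pullback.lift_snd, Category.comp_id]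
        rfl
    exact ⟨((Scheme.Modules.pullback (p.fiberι y₀)).mapIso ((Scheme.Modules.pullbackComp q σT).app N) ≪≫
      (Scheme.Modules.pullbackComp (p.fiberι y₀) (q ≫ σT)).app N ≪≫ (Scheme.Modules.pullbackCongr he).app N).symm⟩
  have hall := hclop.eq_univ ⟨y₀, hy₀⟩
  obtain ⟨E, hE, ⟨i⟩⟩ := exists_iso_tensor_pullback p (bijective_fiber_of_geomIntegral p)
    (subsingleton_h1_fiber_fst s t h1) hN hqM (fun y => Set.eq_univ_iff_forall.1 hall y)
  exact ⟨E, M, hE, hM, ⟨i ≪≫ TMul.commIso _ _⟩⟩

include hσ in
/-- uniqueness of the two factors -/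
theorem box_unique {L L' : S.Modules} {M M' : T.Modules} (hL : PicF.IsInvertible L) (hL' : PicF.IsInvertible L')
    (hM : PicF.IsInvertible M)
    (i : CohB1.tensorMod ((Scheme.Modules.pullback (pullback.fst s t)).obj L) ((Scheme.Modules.pullback (pullback.snd s t)).obj M) ≅
      CohB1.tensorMod ((Scheme.Modules.pullback (pullback.fst s t)).obj L') ((Scheme.Modules.pullback (pullback.snd s t)).obj M')) :
    Nonempty (L ≅ L') ∧ Nonempty (M ≅ M') := by
  let p := pullback.fst s t
  let q := pullback.snd s t
  haveI : LocallyOfFinitePresentation t := InfLift.lfp_of_lft t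
  haveI : LocallyOfFinitePresentation p := MorphismProperty.pullback_fst _ _ inferInstance
  haveI : Flat p := MorphismProperty.pullback_fst _ _ inferInstance
  haveI : IsProper p := MorphismProperty.pullback_fst _ _ inferInstance
  let σT : T ⟶ pullback s t := pullback.lift (t ≫ σ) (𝟙 T) (by rw [Category.assoc, hσ, Category.comp_id, Category.id_comp])
  let P := Scheme.Modules.pullback σT
  have key : ∀ (A : S.Modules), PicF.IsInvertible A → ∀ B : T.Modules,
      Nonempty (P.obj (CohB1.tensorMod ((Scheme.Modules.pullback p).obj A) ((Scheme.Modules.pullback q).obj B)) ≅ B) := by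
    intro A hA B
    obtain ⟨a⟩ := TMul.nonempty_pullTensorIso σT ((Scheme.Modules.pullback p).obj A) ((Scheme.Modules.pullback q).obj B)
    obtain ⟨u⟩ := W7See.nonempty_iso_unit_of_subsingleton (PicLoc.isInvertible_pullback σ hA)
    refine ⟨a.symm ≪≫ PicGrp.tensorModIso ?_ ?_ ≪≫ TMul.leftUnitIso B⟩
    · exact (Scheme.Modules.pullbackComp σT p).app A ≪≫
        (Scheme.Modules.pullbackCongr (show σT ≫ p = t ≫ σ from pullback.lift_fst _ _ _)).app A ≪≫
        ((Scheme.Modules.pullbackComp t σ).app A).symm ≪≫ (Scheme.Modules.pullback t).mapIso u ≪≫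
        PicLoc.pullbackStructureIso t
    · exact (Scheme.Modules.pullbackComp σT q).app B ≪≫
        (Scheme.Modules.pullbackCongr (show σT ≫ q = 𝟙 T from pullback.lift_snd _ _ _)).app B ≪≫
        (Scheme.Modules.pullbackId T).app B
  let e : M ≅ M' := (key L hL M).some.symm ≪≫ P.mapIso i ≪≫ (key L' hL' M').some
  obtain ⟨K', -, ⟨c⟩⟩ := W7Hull.exists_tensor_inverse (PicLoc.isInvertible_pullback q hM)
  let i' := i ≪≫ PicGrp.tensorModIso (Iso.refl _) ((Scheme.Modules.pullback q).mapIso e.symm)
  let j : (Scheme.Modules.pullback p).obj L ≅ (Scheme.Modules.pullback p).obj L' :=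
    (SecTwist.unitorR _).symm ≪≫ PicGrp.tensorModIso (Iso.refl _) c.symm ≪≫ (TMul.assocIso _ _ _).symm ≪≫
      PicGrp.tensorModIso i' (Iso.refl K') ≪≫ TMul.assocIso _ _ _ ≪≫
      PicGrp.tensorModIso (Iso.refl _) c ≪≫ SecTwist.unitorR _
  exact ⟨nonempty_iso_of_pullback_iso p hL hL' j, ⟨e⟩⟩

end Groth.Agent.PicFam
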