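import Groth.Agent.W7See.Main

/-!
Invertible modules trivial on the fibres of a family with vanishing `H¹` of the fibres' structure sheaves,
over an arbitrary base.
-/

set_option autoImplicit false
set_option backward.isDefEq.respectTransparency false
set_option backward.isDefEq.respectTransparency.types false
set_option linter.style.haveILetI false
set_option maxHeartbeats 1000000

universe u

open CategoryTheory CategoryTheory.Limits AlgebraicGeometry TopologicalSpace Opposite
open Groth.Agent.QC (res res_res app_res)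
open TMul (IsGen)

noncomputable section

namespace Groth.Agent.PicFam

variable {X Y : Scheme.{u}} (f : X ⟶ Y)

/-- a global generator trivializes -/
theorem nonempty_iso_of_gen {Z : Scheme.{u}} {M : Z.Modules} {v : Γ(M, ⊤)} (hv : IsGen v) :
    Nonempty (M ≅ Coh.structureModule Z) := by
  obtain ⟨i⟩ := InvGen.nonempty_iso (𝟙 Z) M (U := ⊤) le_top v hv
  exact ⟨(Scheme.Modules.restrictFunctorId.app M).symm ≪≫ i⟩

/-- a generator over the preimage of an open trivializes the fibres over that open -/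
theorem nonempty_fiber_of_gen {H : X.Modules} {U : Y.Opens} {g : Γ(H, f ⁻¹ᵁ U)} (hg : IsGen g) {z : Y}
    (hz : z ∈ U) : Nonempty (CohIII.fiberMod f H z ≅ Coh.structureModule (f.fiber z)) := by
  have hle : (⊤ : (f.fiber z).Opens) ≤ f.fiberι z ⁻¹ᵁ (f ⁻¹ᵁ U) := fun x _ => by
    change f (f.fiberι z x) ∈ U
    have h : f.fiberι z x ∈ Set.range (f.fiberι z) := ⟨x, rfl⟩
    rw [Scheme.Hom.range_fiberι] at h
    rwa [show f (f.fiberι z x) = z from h]
  exact nonempty_iso_of_gen ((C1Cap.isGen_eta (f.fiberι z) hg).res hle)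

/-- iso after cancelling an inverse -/
theorem nonempty_iso_tensor {L M M' N : X.Modules} (ε : CohB1.tensorMod M M' ≅ Coh.structureModule X)
    (e : N ≅ CohB1.tensorMod M' L) : Nonempty (CohB1.tensorMod M N ≅ L) :=
  ⟨PicGrp.tensorModIso (Iso.refl M) e ≪≫ (TMul.assocIso M M' L).symm ≪≫
    PicGrp.tensorModIso ε (Iso.refl L) ≪≫ TMul.leftUnitIso L⟩

/-- fibrewise isomorphic to `M` iff the twist by the inverse is fibrewise trivial -/
theorem fiber_iso_iff {L M M' : X.Modules} (ε : CohB1.tensorMod M M' ≅ Coh.structureModule X) (y : Y) :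
    Nonempty (CohIII.fiberMod f (CohB1.tensorMod M' L) y ≅ Coh.structureModule (f.fiber y)) ↔
      Nonempty (CohIII.fiberMod f L y ≅ CohIII.fiberMod f M y) := by
  let P := Scheme.Modules.pullback (f.fiberι y)
  obtain ⟨a⟩ := TMul.nonempty_pullTensorIso (f.fiberι y) M' L
  obtain ⟨b⟩ := TMul.nonempty_pullTensorIso (f.fiberι y) M' M
  obtain ⟨c⟩ := TMul.nonempty_pullTensorIso (f.fiberι y) M (CohB1.tensorMod M' L)
  obtain ⟨d⟩ := nonempty_iso_tensor ε (Iso.refl (CohB1.tensorMod M' L))
  refine ⟨fun ⟨i⟩ => ⟨?_⟩, fun ⟨i⟩ => ⟨?_⟩⟩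
  · exact P.mapIso d.symm ≪≫ c.symm ≪≫ PicGrp.tensorModIso (Iso.refl _) i ≪≫ TMul.commIso _ _ ≪≫
      TMul.leftUnitIso _
  · exact a.symm ≪≫ PicGrp.tensorModIso (Iso.refl _) i ≪≫ b ≪≫
      P.mapIso (TMul.commIso M' M ≪≫ ε) ≪≫ PicLoc.pullbackStructureIso (f.fiberι y)

/-- from the counit to a description as a twist of a pullback -/
theorem exists_tensor_pullback {L M M' : X.Modules} (ε : CohB1.tensorMod M M' ≅ Coh.structureModule X)
    (h : PicF.IsInvertible ((Scheme.Modules.pushforward f).obj (CohB1.tensorMod M' L)) ∧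
      IsIso ((Scheme.Modules.pullbackPushforwardAdjunction f).counit.app (CohB1.tensorMod M' L))) :
    ∃ E : Y.Modules, PicF.IsInvertible E ∧
      Nonempty (L ≅ CohB1.tensorMod M ((Scheme.Modules.pullback f).obj E)) := by
  haveI := h.2
  obtain ⟨e⟩ := nonempty_iso_tensor ε
    (asIso ((Scheme.Modules.pullbackPushforwardAdjunction f).counit.app (CohB1.tensorMod M' L)))
  exact ⟨_, h.1, ⟨e.symm⟩⟩

variable [IsProper f] [Flat f] [LocallyOfFinitePresentation f]

/-- vanishing of `H¹` of the fibre makes `T⁰` exact nearby -/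
theorem exists_nhd_epi_of_vanish (H : X.Modules) (hH : PicF.IsInvertible H) (y : Y)
    (h1 : Subsingleton (CohIII.fiberH f H y 1)) :
    ∃ W : Y.Opens, y ∈ W ∧ ∀ (U : Y.Opens) (hU : IsAffineOpen U), U ≤ W → ∀ m : W7Cech.ModelNN f H hU,
      (CohIII.TFun m.L 0).PreservesEpimorphisms := by
  have hF := W7Hull.isFP_of_isInvertible hH
  obtain ⟨W, hyW, hW⟩ :=
    W7Cech.exists_nhd_vanish_nn f (FibDepth.isQCoh_of_isFP hF) hF (W7Hull.isFlatOver_of_isInvertible f hH) 1 y h1
  exact ⟨W, hyW, fun U hU hUW m => (W7Cech.T_epi_iff_mono_succ m.L (W7Cech.flatX m.L m.hL) 0).2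
      (W7Cech.isZero_T_of_isZero_homology_all m.L (fun M => m.isZero_T f 1 (fun z hz => hW z (hUW hz)) M)).1⟩

/-- trivial on the fibre, hence generated nearby -/
theorem exists_gen_near (H : X.Modules) (hH : PicF.IsInvertible H) (y : Y)
    (h1 : Subsingleton (Coh.HH (f.fiber y) (Coh.structureModule (f.fiber y)) 1))
    (i : CohIII.fiberMod f H y ≅ Coh.structureModule (f.fiber y)) :
    ∃ (U : Y.Opens) (g : Γ(H, f ⁻¹ᵁ U)), y ∈ U ∧ IsGen g :=
  W7Hull.exists_gen_near_of_epi_lfp f H hH y (exists_nhd_epi_of_vanish f H hH y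
    ((((CohIII.HAb _ 1).mapIso i).addCommGroupIsoToAddEquiv : Coh.HH _ (CohIII.fiberMod f H y) 1 ≃+
      Coh.HH _ (Coh.structureModule (f.fiber y)) 1).toEquiv.subsingleton_congr.2 h1)) i

/-- the locus where a module is fibrewise isomorphic to another is open -/
theorem isOpen_fiber_iso (h1 : ∀ y : Y, Subsingleton (Coh.HH (f.fiber y) (Coh.structureModule (f.fiber y)) 1))
    {L M : X.Modules} (hL : PicF.IsInvertible L) (hM : PicF.IsInvertible M) :
    IsOpen {y : Y | Nonempty (CohIII.fiberMod f L y ≅ CohIII.fiberMod f M y)} := by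
  obtain ⟨M', hM', ⟨ε⟩⟩ := W7Hull.exists_tensor_inverse hM
  refine isOpen_iff_forall_mem_open.2 fun y hy => ?_
  obtain ⟨i⟩ := (fiber_iso_iff f ε y).2 hy
  obtain ⟨U, g, hyU, hg⟩ := exists_gen_near f _ (TMul.isInvertible_tensorMod hM' hL) y (h1 y) i
  exact ⟨U, fun z hz => (fiber_iso_iff f ε z).1 (nonempty_fiber_of_gen f hg hz), U.2, hyU⟩

/-- seesaw over any base -/
theorem seesaw (hy : ∀ y : Y, Function.Bijective ((f.fiberToSpecResidueField y).appTop.hom.comp
      (Scheme.ΓSpecIso (Y.residueField y)).inv.hom))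
    (h1 : ∀ y : Y, Subsingleton (Coh.HH (f.fiber y) (Coh.structureModule (f.fiber y)) 1))
    (L : X.Modules) (hL : PicF.IsInvertible L)
    (htriv : ∀ y : Y, Nonempty (CohIII.fiberMod f L y ≅ Coh.structureModule (f.fiber y))) :
    PicF.IsInvertible ((Scheme.Modules.pushforward f).obj L) ∧
      IsIso ((Scheme.Modules.pullbackPushforwardAdjunction f).counit.app L) :=
  W7See.seesaw_formal f (W7See.app_bijective_of_local f fun y => W7Hull.exists_nhd_app_bijective_of_lfp f y (hy y))
    L hL fun y => exists_gen_near f L hL y (h1 y) (htriv y).some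

/-- fibrewise isomorphic modules differ by a module from the base -/
theorem exists_iso_tensor_pullback (hy : ∀ y : Y, Function.Bijective ((f.fiberToSpecResidueField y).appTop.hom.comp
      (Scheme.ΓSpecIso (Y.residueField y)).inv.hom))
    (h1 : ∀ y : Y, Subsingleton (Coh.HH (f.fiber y) (Coh.structureModule (f.fiber y)) 1))
    {L M : X.Modules} (hL : PicF.IsInvertible L) (hM : PicF.IsInvertible M)
    (h : ∀ y : Y, Nonempty (CohIII.fiberMod f L y ≅ CohIII.fiberMod f M y)) :
    ∃ E : Y.Modules, PicF.IsInvertible E ∧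
      Nonempty (L ≅ CohB1.tensorMod M ((Scheme.Modules.pullback f).obj E)) := by
  obtain ⟨M', hM', ⟨ε⟩⟩ := W7Hull.exists_tensor_inverse hM
  exact exists_tensor_pullback f ε
    (seesaw f hy h1 _ (TMul.isInvertible_tensorMod hM' hL) fun y => (fiber_iso_iff f ε y).2 (h y))

/-- connected base and a discrete list of fibrewise classes -/
theorem exists_index [ConnectedSpace Y]
    (hy : ∀ y : Y, Function.Bijective ((f.fiberToSpecResidueField y).appTop.hom.comp
      (Scheme.ΓSpecIso (Y.residueField y)).inv.hom))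
    (h1 : ∀ y : Y, Subsingleton (Coh.HH (f.fiber y) (Coh.structureModule (f.fiber y)) 1))
    {ι : Type*} (M : ι → X.Modules) (hM : ∀ a, PicF.IsInvertible (M a))
    (hinj : ∀ (y : Y) (a b : ι), Nonempty (CohIII.fiberMod f (M a) y ≅ CohIII.fiberMod f (M b) y) → a = b)
    {L : X.Modules} (hL : PicF.IsInvertible L)
    (hex : ∀ y : Y, ∃ a, Nonempty (CohIII.fiberMod f L y ≅ CohIII.fiberMod f (M a) y)) :
    ∃ (a : ι) (E : Y.Modules), PicF.IsInvertible E ∧
      Nonempty (L ≅ CohB1.tensorMod (M a) ((Scheme.Modules.pullback f).obj E)) := by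
  choose a ha using hex
  have hloc : IsLocallyConstant a := by
    refine (IsLocallyConstant.iff_exists_open _).2 fun y =>
      ⟨_, isOpen_fiber_iso f h1 hL (hM (a y)), ha y, fun z hz => ?_⟩
    exact hinj z _ _ ⟨(ha z).some.symm ≪≫ hz.some⟩
  obtain ⟨y₀⟩ := (inferInstance : Nonempty Y)
  refine ⟨a y₀, exists_iso_tensor_pullback f hy h1 hL (hM _) fun y => ?_⟩
  rw [hloc.apply_eq_of_preconnectedSpace y₀ y]
  exact ha y

end Groth.Agent.PicFam
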