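import Groth.Agent.PicFam.Basic
import Groth.Agent.W7See.Point
import Groth.Agent.PicPn.Main
import Groth.Agent.PnSpec.Twist
import Groth.Agent.TwistOverVan.Basic
import Groth.Agent.PerfGen.PnFlat
import Groth.Agent.HQProj.Basic

/-!
Invertible modules on projective space over a connected base.
-/

set_option autoImplicit false
set_option backward.isDefEq.respectTransparency false
set_option backward.isDefEq.respectTransparency.types false
set_option linter.style.haveILetI false
set_option maxHeartbeats 1000000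

universe u

open CategoryTheory CategoryTheory.Limits AlgebraicGeometry TopologicalSpace Opposite

noncomputable section

namespace Groth.Agent.PicFam

theorem flat_lfp_toBase (r : ℕ) (Y : Scheme.{u}) :
    Flat (CohB1.ProjSpaceOver.toBase r Y) ∧ LocallyOfFinitePresentation (CohB1.ProjSpaceOver.toBase r Y) := by
  obtain ⟨h1, h2⟩ := PerfGen.flat_lfp_toSpec r (ULift.{u} ℤ)
  exact ⟨MorphismProperty.pullback_snd _ _ h1, MorphismProperty.pullback_snd _ _ h2⟩

/-- global functions of projective space over a field -/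
theorem bijective_toSpec (r : ℕ) (K : Type u) [Field K] :
    Function.Bijective ((CohB1.ProjSpace.toSpec r K).appTop.hom.comp
      (Scheme.ΓSpecIso (CommRingCat.of K)).inv.hom) := by
  let P := CohB1.ProjSpace r K
  letI : P.Over (Spec (CommRingCat.of K)) := ⟨CohB1.ProjSpace.toSpec r K⟩
  letI : Algebra K Γ(P, ⊤) := ((CohB1.ProjSpace.toSpec r K).appTop.hom.comp
      (Scheme.ΓSpecIso (CommRingCat.of K)).inv.hom).toAlgebra
  have h0 : Module.finrank K Γ(P, ⊤) = 1 := by
    obtain ⟨z⟩ := ProjCech.zero_equiv (R := K) r 0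
    obtain ⟨t⟩ := GrT.nonempty_twist_zero_iso (𝒜 := CohB1.polyGrading r K)
    let T : Γ(P, ⊤) →ₗ[K] ((CohIII.globalSectionsA K).obj (Twist.twistProjSpace r K 0) : Type u) :=
      { toFun := fun x => t.inv.app ⊤ x
        map_add' := fun a b => map_add (t.inv.app ⊤).hom a b
        map_smul' := fun c x => by
          rw [Algebra.smul_def]
          exact Scheme.Modules.Hom.app_smul t.inv (U := ⊤) (algebraMap K Γ(P, ⊤) c) x }
    rw [(LinearEquiv.ofBijective T (ConcreteCategory.bijective_of_isIso (t.inv.app ⊤))).finrank_eq,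
      (W7Cech.gsH0L K (Twist.twistProjSpace r K 0)).finrank_eq]
    refine z.finrank_eq.trans ?_
    rw [MvPolynomial.homogeneousSubmodule_zero, Submodule.one_eq_span]
    exact finrank_span_singleton one_ne_zero
  haveI : Nontrivial Γ(P, ⊤) := Module.nontrivial_of_finrank_eq_succ h0
  haveI : Module.Free K Γ(P, ⊤) := Module.Free.of_divisionRing K _
  exact Module.Free.bijective_algebraMap_of_finrank_eq_one h0

variable (r : ℕ) (Y : Scheme.{u})

/-- fibres of projective space are projective spaces, with the twists -/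
theorem exists_fiber_iso (y : Y) :
    ∃ ε : CohB1.ProjSpace r (Y.residueField y) ≅ (CohB1.ProjSpaceOver.toBase r Y).fiber y,
      ε.hom ≫ (CohB1.ProjSpaceOver.toBase r Y).fiberToSpecResidueField y =
          CohB1.ProjSpace.toSpec r (Y.residueField y) ∧
        ∀ d : ℤ, Nonempty ((Scheme.Modules.pullback ε.hom).obj
          (CohIII.fiberMod (CohB1.ProjSpaceOver.toBase r Y) (Twist.twistOver r Y d) y) ≅
          Twist.twistProjSpace r (Y.residueField y) d) := by
  obtain ⟨e, he, htw⟩ := PnSpec.exists_iso_twist r (Y.residueField y)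
  let g := Y.fromSpecResidueField y
  let S' := Spec (CommRingCat.of (Y.residueField y))
  let t := CohB1.ProjSpace.toSpec r (ULift.{u} ℤ)
  let a : CohB1.ProjSpaceOver r S' ⟶ CohB1.ProjSpaceOver r Y :=
    pullback.map t (specULiftZIsTerminal.from S') t (specULiftZIsTerminal.from Y) (𝟙 _) g (𝟙 _)
      (by simp) (specULiftZIsTerminal.hom_ext _ _)
  have e1 : a ≫ pullback.fst t (specULiftZIsTerminal.from Y) = pullback.fst t (specULiftZIsTerminal.from S') :=
    (pullback.lift_fst _ _ _).trans (Category.comp_id _)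
  have hsq : IsPullback a (CohB1.ProjSpaceOver.toBase r S') (CohB1.ProjSpaceOver.toBase r Y) g := by
    refine IsPullback.of_right (h₁₂ := pullback.fst t (specULiftZIsTerminal.from Y))
      (h₂₂ := specULiftZIsTerminal.from Y) (v₁₃ := t) ?_ ?_ (IsPullback.of_hasPullback _ _)
    · have e2 : g ≫ specULiftZIsTerminal.from Y = specULiftZIsTerminal.from S' := specULiftZIsTerminal.hom_ext _ _
      rw [e1, e2]
      exact IsPullback.of_hasPullback _ _
    · exact pullback.lift_snd _ _ _
  let ε : CohB1.ProjSpace r (Y.residueField y) ≅ (CohB1.ProjSpaceOver.toBase r Y).fiber y := e ≪≫ hsq.isoPullback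
  refine ⟨ε, ?_, fun d => ?_⟩
  · exact (Category.assoc _ _ _).trans ((congrArg (e.hom ≫ ·) hsq.isoPullback_hom_snd).trans he)
  · obtain ⟨t'⟩ := htw d
    refine ⟨(Scheme.Modules.pullbackComp ε.hom _).app _ ≪≫
      (Scheme.Modules.pullbackCongr (show ε.hom ≫ (CohB1.ProjSpaceOver.toBase r Y).fiberι y = e.hom ≫ a from
        (Category.assoc _ _ _).trans (congrArg (e.hom ≫ ·) hsq.isoPullback_hom_fst))).app _ ≪≫
      ((Scheme.Modules.pullbackComp e.hom a).app _).symm ≪≫
      (Scheme.Modules.pullback e.hom).mapIso ?_ ≪≫ t'⟩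
    exact (Scheme.Modules.pullbackComp a (pullback.fst t (specULiftZIsTerminal.from Y))).app _ ≪≫
      (Scheme.Modules.pullbackCongr e1).app _

theorem bijective_fiber (y : Y) :
    Function.Bijective (((CohB1.ProjSpaceOver.toBase r Y).fiberToSpecResidueField y).appTop.hom.comp
      (Scheme.ΓSpecIso (Y.residueField y)).inv.hom) := by
  obtain ⟨ε, hε, -⟩ := exists_fiber_iso r Y y
  have hb := bijective_toSpec r (Y.residueField y)
  rw [← hε, Scheme.Hom.comp_appTop] at hb
  exact ((ConcreteCategory.bijective_of_isIso ε.hom.appTop).of_comp_iff' _).1 hb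

theorem subsingleton_h1_fiber (y : Y) :
    Subsingleton (Coh.HH ((CohB1.ProjSpaceOver.toBase r Y).fiber y)
      (Coh.structureModule ((CohB1.ProjSpaceOver.toBase r Y).fiber y)) 1) := by
  obtain ⟨ε, -, -⟩ := exists_fiber_iso r Y y
  obtain ⟨t⟩ := GrT.nonempty_twist_zero_iso (𝒜 := CohB1.polyGrading r (Y.residueField y))
  have h : Subsingleton (Coh.HH _ (Coh.structureModule (CohB1.ProjSpace r (Y.residueField y))) 1) :=
    CohQC.hh_subsingleton_of_iso t 1
      (ProjCech.twist_vanish (R := Y.residueField y) r 0 1 (by omega) (by omega))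
  exact CohQC.hh_subsingleton_of_iso (PicLoc.pullbackStructureIso ε.inv) 1
    (TwistOverVan.subsingleton_hh_pullback_iso ε.inv _ (QC.isQCoh_unit _) 1 h)

theorem isInvertible_twistOver (d : ℤ) : PicF.IsInvertible (Twist.twistOver r Y d) :=
  PicLoc.isInvertible_pullback _ (CohFinite.isInvertible_twist r _ d)

/-- pullback along an isomorphism reflects isomorphisms -/
theorem nonempty_iso_of_pullback {A B : Scheme.{u}} (e : A ≅ B) {M N : B.Modules}
    (i : (Scheme.Modules.pullback e.hom).obj M ≅ (Scheme.Modules.pullback e.hom).obj N) : Nonempty (M ≅ N) := by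
  let c : ∀ M : B.Modules, (Scheme.Modules.pullback e.inv).obj ((Scheme.Modules.pullback e.hom).obj M) ≅ M :=
    fun M => (Scheme.Modules.pullbackComp e.inv e.hom).app M ≪≫
      (Scheme.Modules.pullbackCongr e.inv_hom_id).app M ≪≫ (Scheme.Modules.pullbackId B).app M
  exact ⟨(c M).symm ≪≫ (Scheme.Modules.pullback e.inv).mapIso i ≪≫ c N⟩

theorem fiber_twist_inj (hr : 1 ≤ r) (y : Y) (a b : ℤ)
    (h : Nonempty (CohIII.fiberMod (CohB1.ProjSpaceOver.toBase r Y) (Twist.twistOver r Y a) y ≅
      CohIII.fiberMod (CohB1.ProjSpaceOver.toBase r Y) (Twist.twistOver r Y b) y)) : a = b := by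
  obtain ⟨ε, -, htw⟩ := exists_fiber_iso r Y y
  obtain ⟨i⟩ := h
  exact (PicPn.existsUnique_iso hr (Twist.twistProjSpace r (Y.residueField y) a)
      (CohFinite.isInvertible_twist r _ a)).unique ⟨Iso.refl _⟩
    ⟨(htw a).some.symm ≪≫ (Scheme.Modules.pullback ε.hom).mapIso i ≪≫ (htw b).some⟩

theorem fiber_twist_exists {L : (CohB1.ProjSpaceOver r Y).Modules} (hL : PicF.IsInvertible L) (y : Y) :
    ∃ d : ℤ, Nonempty (CohIII.fiberMod (CohB1.ProjSpaceOver.toBase r Y) L y ≅
      CohIII.fiberMod (CohB1.ProjSpaceOver.toBase r Y) (Twist.twistOver r Y d) y) := by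
  obtain ⟨ε, -, htw⟩ := exists_fiber_iso r Y y
  obtain ⟨d, ⟨i⟩⟩ := PicPn.exists_iso_any (k := Y.residueField y)
    ((Scheme.Modules.pullback ε.hom).obj (CohIII.fiberMod (CohB1.ProjSpaceOver.toBase r Y) L y))
    (PicLoc.isInvertible_pullback _ (PicLoc.isInvertible_pullback _ hL))
  exact ⟨d, nonempty_iso_of_pullback ε (i ≪≫ (htw d).some.symm)⟩

/-- every invertible module is a twist of one from the base -/
theorem exists_pullback_twist [ConnectedSpace Y] {L : (CohB1.ProjSpaceOver r Y).Modules} (hL : PicF.IsInvertible L) :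
    ∃ (E : Y.Modules) (d : ℤ), PicF.IsInvertible E ∧
      Nonempty (L ≅ CohB1.tensorMod ((Scheme.Modules.pullback (CohB1.ProjSpaceOver.toBase r Y)).obj E)
        (Twist.twistOver r Y d)) := by
  rcases Nat.eq_zero_or_pos r with rfl | hr
  · haveI : IsIso (CohB1.ProjSpaceOver.toBase 0 Y) := by
      haveI := ProjMor.isIso_toSpec_zero (ULift.{u} ℤ)
      exact inferInstanceAs (IsIso (pullback.snd (CohB1.ProjSpace.toSpec 0 (ULift.{u} ℤ)) (specULiftZIsTerminal.from Y)))
    let π := CohB1.ProjSpaceOver.toBase 0 Y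
    obtain ⟨t₀⟩ := GrT.nonempty_twist_zero_iso (𝒜 := CohB1.polyGrading 0 (ULift.{u} ℤ))
    refine ⟨(Scheme.Modules.pullback (inv π)).obj L, 0, PicLoc.isInvertible_pullback _ hL,
      ⟨(((Scheme.Modules.pullbackComp π (inv π)).app L ≪≫
        (Scheme.Modules.pullbackCongr (IsIso.hom_inv_id π)).app L ≪≫ (Scheme.Modules.pullbackId _).app L).symm) ≪≫
        (SecTwist.unitorR _).symm ≪≫ PicGrp.tensorModIso (Iso.refl _) ?_⟩⟩
    exact ((Scheme.Modules.pullback _).mapIso t₀ ≪≫ PicLoc.pullbackStructureIso _).symm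
  · obtain ⟨hfl, hlfp⟩ := flat_lfp_toBase r Y
    haveI := hfl
    haveI := hlfp
    haveI := HQProj.isProper_toBase r Y
    obtain ⟨d, E, hE, ⟨i⟩⟩ := exists_index (CohB1.ProjSpaceOver.toBase r Y) (bijective_fiber r Y)
      (subsingleton_h1_fiber r Y) (fun d => Twist.twistOver r Y d) (isInvertible_twistOver r Y)
      (fiber_twist_inj r Y hr) hL (fiber_twist_exists r Y hL)
    exact ⟨E, d, hE, ⟨i ≪≫ TMul.commIso _ _⟩⟩

/-- a module pulled back from the base is trivial on fibres -/
theorem nonempty_fiber_pullback {X Z : Scheme.{u}} (f : X ⟶ Z) {E : Z.Modules} (hE : PicF.IsInvertible E) (z : Z) :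
    Nonempty (CohIII.fiberMod f ((Scheme.Modules.pullback f).obj E) z ≅ Coh.structureModule (f.fiber z)) := by
  obtain ⟨t⟩ := W7See.nonempty_iso_unit_of_subsingleton
    (PicLoc.isInvertible_pullback (Z.fromSpecResidueField z) hE)
  exact ⟨(Scheme.Modules.pullbackComp _ _).app E ≪≫ (Scheme.Modules.pullbackCongr (f.fiber_fac z)).app E ≪≫
    ((Scheme.Modules.pullbackComp _ _).app E).symm ≪≫
    (Scheme.Modules.pullback (f.fiberToSpecResidueField z)).mapIso t ≪≫ PicLoc.pullbackStructureIso _⟩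

theorem exists_section : ∃ σ : Y ⟶ CohB1.ProjSpaceOver r Y, σ ≫ CohB1.ProjSpaceOver.toBase r Y = 𝟙 Y := by
  obtain ⟨q, hq⟩ := ProjMor.exists_lift r (ULift.{u} ℤ) (specULiftZIsTerminal.from Y)
  exact ⟨pullback.lift q (𝟙 Y) (by rw [hq, Category.id_comp]), pullback.lift_snd _ _ _⟩

/-- uniqueness of the twist and of the module on the base -/
theorem unique_pullback_twist [Nonempty Y] (hr : 1 ≤ r) {L L' : Y.Modules} (hL : PicF.IsInvertible L)
    (hL' : PicF.IsInvertible L') {d d' : ℤ}
    (i : CohB1.tensorMod ((Scheme.Modules.pullback (CohB1.ProjSpaceOver.toBase r Y)).obj L) (Twist.twistOver r Y d) ≅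
        CohB1.tensorMod ((Scheme.Modules.pullback (CohB1.ProjSpaceOver.toBase r Y)).obj L') (Twist.twistOver r Y d')) :
    d = d' ∧ Nonempty (L ≅ L') := by
  let π := CohB1.ProjSpaceOver.toBase r Y
  obtain ⟨y⟩ := (inferInstance : Nonempty Y)
  have key : ∀ (L : Y.Modules), PicF.IsInvertible L → ∀ d : ℤ,
      Nonempty (CohIII.fiberMod π (CohB1.tensorMod ((Scheme.Modules.pullback π).obj L) (Twist.twistOver r Y d)) y ≅
        CohIII.fiberMod π (Twist.twistOver r Y d) y) := fun L hL d => by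
    obtain ⟨t⟩ := nonempty_fiber_pullback π hL y
    obtain ⟨a⟩ := TMul.nonempty_pullTensorIso (π.fiberι y) ((Scheme.Modules.pullback π).obj L) (Twist.twistOver r Y d)
    exact ⟨a.symm ≪≫ PicGrp.tensorModIso t (Iso.refl _) ≪≫ TMul.leftUnitIso _⟩
  have hd : d = d' := fiber_twist_inj r Y hr y d d'
    ⟨(key L hL d).some.symm ≪≫ (Scheme.Modules.pullback (π.fiberι y)).mapIso i ≪≫ (key L' hL' d').some⟩
  subst hd
  refine ⟨rfl, ?_⟩
  obtain ⟨K', -, ⟨k⟩⟩ := W7Hull.exists_tensor_inverse (isInvertible_twistOver r Y d)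
  let j : (Scheme.Modules.pullback π).obj L ≅ (Scheme.Modules.pullback π).obj L' :=
    (SecTwist.unitorR _).symm ≪≫ PicGrp.tensorModIso (Iso.refl _) k.symm ≪≫ (TMul.assocIso _ _ _).symm ≪≫
      PicGrp.tensorModIso i (Iso.refl K') ≪≫ TMul.assocIso _ _ _ ≪≫
      PicGrp.tensorModIso (Iso.refl _) k ≪≫ SecTwist.unitorR _
  obtain ⟨σ, hσ⟩ := exists_section r Y
  let c : ∀ M : Y.Modules, (Scheme.Modules.pullback σ).obj ((Scheme.Modules.pullback π).obj M) ≅ M :=
    fun M => (Scheme.Modules.pullbackComp σ π).app M ≪≫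
      (Scheme.Modules.pullbackCongr hσ).app M ≪≫ (Scheme.Modules.pullbackId Y).app M
  exact ⟨(c L).symm ≪≫ (Scheme.Modules.pullback σ).mapIso j ≪≫ c L'⟩

end Groth.Agent.PicFam
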