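import Groth.Agent.PicFam.Product
import Groth.Agent.PicFam.Pn
import Groth.Agent.S4508
import Groth.Prelude.Def_AbDual

/-!
Separatedness of the relative Picard scheme of a family with geometrically integral fibres.
-/

set_option autoImplicit false
set_option backward.isDefEq.respectTransparency false
set_option backward.isDefEq.respectTransparency.types false
set_option linter.style.haveILetI false
set_option maxHeartbeats 1000000

universe u

open CategoryTheory CategoryTheory.Limits AlgebraicGeometry TopologicalSpace Opposite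

noncomputable section

namespace Groth.Agent.PicFam

section descend

theorem fiberRank_eq_betti {X Y : Scheme.{u}} (f : X ⟶ Y) (F : X.Modules) (y : Y) (i : ℕ) :
    CohIII.fiberRank f F i y = PerfAux.betti f F y i := rfl

variable {X Y Y' : Scheme.{u}} (p : X ⟶ Y) (g : Y' ⟶ Y) [IsProper p] [GeometricallyIntegral p]

/-- triviality on a fibre descends along extensions of the residue field -/
theorem fiber_trivial_descend {L : X.Modules} (hL : PicF.IsInvertible L) (y' : Y')
    (h : Nonempty (CohIII.fiberMod (pullback.snd p g) ((Scheme.Modules.pullback (pullback.fst p g)).obj L) y' ≅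
      Coh.structureModule ((pullback.snd p g).fiber y'))) :
    Nonempty (CohIII.fiberMod p L (g y') ≅ Coh.structureModule (p.fiber (g y'))) := by
  obtain ⟨i⟩ := h
  obtain ⟨L', hL', ⟨ε⟩⟩ := W7Hull.exists_tensor_inverse hL
  haveI := W7See.geometricallyConnected_of_geometricallyIntegral p
  haveI : IsProper (pullback.snd p g) := inferInstance
  haveI : GeometricallyIntegral (pullback.snd p g) := inferInstance
  haveI := W7See.geometricallyConnected_of_geometricallyIntegral (pullback.snd p g)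
  let y := g y'
  let P := Scheme.Modules.pullback (pullback.fst p g)
  have hy' := W7See.bijective_fiber (pullback.snd p g) y'
  obtain ⟨a⟩ := TMul.nonempty_pullTensorIso (pullback.fst p g) L L'
  obtain ⟨b⟩ := TMul.nonempty_pullTensorIso ((pullback.snd p g).fiberι y') (P.obj L) (P.obj L')
  let i' : CohIII.fiberMod (pullback.snd p g) (P.obj L') y' ≅ Coh.structureModule ((pullback.snd p g).fiber y') :=
    (TMul.leftUnitIso _).symm ≪≫ PicGrp.tensorModIso i.symm (Iso.refl _) ≪≫ b ≪≫
      (Scheme.Modules.pullback _).mapIso (a ≪≫ P.mapIso ε ≪≫ PicLoc.pullbackStructureIso _) ≪≫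
      PicLoc.pullbackStructureIso _
  have hrank : ∀ M : X.Modules, PicF.IsInvertible M →
      CohIII.fiberRank (pullback.snd p g) (P.obj M) 0 y' = 1 → CohIII.fiberRank p M 0 y = 1 := fun M hM h1 =>
    ((fiberRank_eq_betti p M y 0).trans (S4508.betti_baseChange p g M (TMul.isQCoh_of_isInvertible hM) y' 0).symm).trans
      ((fiberRank_eq_betti (pullback.snd p g) (P.obj M) y' 0).symm.trans h1)
  have hsec : ∀ M : X.Modules, PicF.IsInvertible M →
      (CohIII.fiberMod (pullback.snd p g) (P.obj M) y' ≅ Coh.structureModule ((pullback.snd p g).fiber y')) →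
      ∃ s : Γ(CohIII.fiberMod p M y, ⊤), s ≠ 0 := fun M hM j => by
    haveI : Nontrivial (Coh.HH (p.fiber y) (CohIII.fiberMod p M y) 0) :=
      Module.nontrivial_of_finrank_pos (R := Y.residueField y)
        (lt_of_lt_of_eq Nat.one_pos (hrank M hM (W7See.fiberRank_eq_one (pullback.snd p g) _ y' hy' j)).symm)
    exact W7See.exists_ne_zero_of_nontrivial _
  obtain ⟨s, hs⟩ := hsec L hL i
  obtain ⟨t, ht⟩ := hsec L' hL' i'
  obtain ⟨c⟩ := TMul.nonempty_pullTensorIso (p.fiberι y) L L'
  exact W7See.nonempty_iso_unit_of_sections (W7See.isUnit_of_bijective (W7See.bijective_fiber p y))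
    (PicLoc.isInvertible_pullback _ hL) (PicLoc.isInvertible_pullback _ hL')
    (c ≪≫ (Scheme.Modules.pullback (p.fiberι y)).mapIso ε ≪≫ PicLoc.pullbackStructureIso (p.fiberι y)) hs ht

/-- isomorphy on a fibre descends along extensions of the residue field -/
theorem fiber_iso_descend {L M : X.Modules} (hL : PicF.IsInvertible L) (hM : PicF.IsInvertible M) (y' : Y')
    (i : (Scheme.Modules.pullback (pullback.fst p g)).obj L ≅ (Scheme.Modules.pullback (pullback.fst p g)).obj M) :
    Nonempty (CohIII.fiberMod p L (g y') ≅ CohIII.fiberMod p M (g y')) := by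
  obtain ⟨M', hM', ⟨ε⟩⟩ := W7Hull.exists_tensor_inverse hM
  let P := Scheme.Modules.pullback (pullback.fst p g)
  obtain ⟨a⟩ := TMul.nonempty_pullTensorIso (pullback.fst p g) M' L
  obtain ⟨b⟩ := TMul.nonempty_pullTensorIso (pullback.fst p g) M' M
  let j : P.obj (CohB1.tensorMod M' L) ≅ Coh.structureModule _ :=
    a.symm ≪≫ PicGrp.tensorModIso (Iso.refl _) i ≪≫ b ≪≫
      P.mapIso (TMul.commIso M' M ≪≫ ε) ≪≫ PicLoc.pullbackStructureIso _
  exact (fiber_iso_iff p ε _).1 (fiber_trivial_descend p g (TMul.isInvertible_tensorMod hM' hL) y'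
    ⟨(Scheme.Modules.pullback _).mapIso j ≪≫ PicLoc.pullbackStructureIso _⟩)

end descend

lemma pullCl_cl {Y Y' : Scheme.{u}} (g : Y' ⟶ Y) (L : Y.Modules) :
    PicF.pullCl g (PicF.cl L) = PicF.cl ((Scheme.Modules.pullback g).obj L) := rfl

lemma nonempty_iso_of_cl_eq {Y : Scheme.{u}} {L M : Y.Modules} (h : PicF.cl L = PicF.cl M) : Nonempty (L ≅ M) := by
  have h' := Quot.eqvGen_exact h
  clear h
  induction h' with
  | rel _ _ h => exact h
  | refl => exact ⟨Iso.refl _⟩
  | symm _ _ _ ih => exact ⟨ih.some.symm⟩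
  | trans _ _ _ _ _ ih1 ih2 => exact ⟨ih1.some ≪≫ ih2.some⟩

variable {X S : Scheme.{u}} (f : X ⟶ S)

lemma isPullback_XTmap {T T' : Over S} (g : T' ⟶ T) :
    IsPullback (PicF.XTmap f g) (pullback.snd f T'.hom) (pullback.snd f T.hom) g.left := by
  refine IsPullback.of_right (h₁₂ := pullback.fst f T.hom) (h₂₂ := T.hom) (v₁₃ := f) ?_ ?_
    (IsPullback.of_hasPullback _ _)
  · have e1 : PicF.XTmap f g ≫ pullback.fst f T.hom = pullback.fst f T'.hom :=
      (pullback.lift_fst _ _ _).trans (Category.comp_id _)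
    rw [e1, Over.w g]
    exact IsPullback.of_hasPullback _ _
  · exact pullback.lift_snd _ _ _

lemma nonempty_pullback_iso_iff {T T' : Over S} (g : T' ⟶ T) (L M : (PicF.XT f T).Modules) :
    Nonempty ((Scheme.Modules.pullback (PicF.XTmap f g)).obj L ≅ (Scheme.Modules.pullback (PicF.XTmap f g)).obj M) ↔
      Nonempty ((Scheme.Modules.pullback (pullback.fst (pullback.snd f T.hom) g.left)).obj L ≅
        (Scheme.Modules.pullback (pullback.fst (pullback.snd f T.hom) g.left)).obj M) := by
  let e := (isPullback_XTmap f g).isoPullback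
  have he : e.hom ≫ pullback.fst _ _ = PicF.XTmap f g := (isPullback_XTmap f g).isoPullback_hom_fst
  let c : ∀ L : (PicF.XT f T).Modules, (Scheme.Modules.pullback e.hom).obj
      ((Scheme.Modules.pullback (pullback.fst (pullback.snd f T.hom) g.left)).obj L) ≅
      (Scheme.Modules.pullback (PicF.XTmap f g)).obj L := fun L =>
    (Scheme.Modules.pullbackComp _ _).app L ≪≫ (Scheme.Modules.pullbackCongr he).app L
  exact ⟨fun ⟨i⟩ => nonempty_iso_of_pullback e (c L ≪≫ i ≪≫ (c M).symm),
    fun ⟨i⟩ => ⟨(c L).symm ≪≫ (Scheme.Modules.pullback e.hom).mapIso i ≪≫ c M⟩⟩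

variable [IsProper f] [GeometricallyIntegral f] {P : Over S} {φ : ∀ T : Over S, PicF.Cl (PicF.XT f T) → (T ⟶ P)}
  (hP : AbDual.IsRelPicK Scheme.fppfPrecoverage f P φ)

include hP in
/-- equality of points of the Picard scheme is isomorphy on the fibre -/
theorem point_eq_iff {T : Over S} {L M : (PicF.XT f T).Modules} (hL : PicF.IsInvertible L) (hM : PicF.IsInvertible M)
    (t : T.left) :
    T.left.fromSpecResidueField t ≫ (φ T (PicF.cl L)).left = T.left.fromSpecResidueField t ≫ (φ T (PicF.cl M)).left ↔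
      Nonempty (CohIII.fiberMod (pullback.snd f T.hom) L t ≅ CohIII.fiberMod (pullback.snd f T.hom) M t) := by
  let g := AbDual.ovrHom T (T.left.fromSpecResidueField t)
  have hn : ∀ L : (PicF.XT f T).Modules, PicF.IsInvertible L →
      φ _ (PicF.cl ((Scheme.Modules.pullback (PicF.XTmap f g)).obj L)) = g ≫ φ T (PicF.cl L) :=
    fun L hL => hP.natural T _ g (PicF.cl L) ⟨L, rfl, hL⟩
  constructor
  · intro h
    have h' : g ≫ φ T (PicF.cl L) = g ≫ φ T (PicF.cl M) := Over.OverMorphism.ext h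
    rw [← hn L hL, ← hn M hM] at h'
    obtain ⟨R, hR, hRu⟩ := hP.locallyInjective _ _ _ ⟨_, rfl, PicLoc.isInvertible_pullback _ hL⟩
      ⟨_, rfl, PicLoc.isInvertible_pullback _ hM⟩ h'
    obtain ⟨ι, U, u, rfl⟩ := R.exists_eq_ofArrows
    obtain ⟨k, x, -⟩ := ((Scheme.ofArrows_mem_precoverage_iff _).1 hR).1 (IsLocalRing.closedPoint _)
    obtain ⟨i⟩ := nonempty_iso_of_cl_eq (hRu (u k) (Presieve.ofArrows.mk k))
    let h := AbDual.ovrHom _ (u k) ≫ g
    have hc : PicF.XTmap f (AbDual.ovrHom _ (u k)) ≫ PicF.XTmap f g = PicF.XTmap f h := by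
      refine pullback.hom_ext ?_ ?_ <;> simp [PicF.XTmap, h]
    obtain ⟨j⟩ := (nonempty_pullback_iso_iff f h L M).1
      ⟨((Scheme.Modules.pullbackCongr hc).app L).symm ≪≫ ((Scheme.Modules.pullbackComp _ _).app L).symm ≪≫ i ≪≫
        (Scheme.Modules.pullbackComp _ _).app M ≪≫ (Scheme.Modules.pullbackCongr hc).app M⟩
    obtain ⟨r⟩ := fiber_iso_descend (pullback.snd f T.hom) h.left hL hM x j
    have hx : h.left x = t := by
      change (u k ≫ T.left.fromSpecResidueField t) x = t
      rw [Scheme.Hom.comp_apply]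
      exact Scheme.fromSpecResidueField_apply _ _
    exact hx ▸ ⟨r⟩
  · rintro ⟨i⟩
    obtain ⟨j⟩ := (nonempty_pullback_iso_iff f g L M).2 ⟨i⟩
    have h : g ≫ φ T (PicF.cl L) = g ≫ φ T (PicF.cl M) := by
      rw [← hn L hL, ← hn M hM]
      exact congrArg _ (Quot.sound ⟨j⟩)
    exact congrArg CommaMorphism.left h

variable [Flat f] [LocallyOfFinitePresentation f]

include hP in
/-- The relative Picard scheme is separated. -/
theorem isSeparated : IsSeparated P.hom := by
  refine ⟨?_⟩
  refine IsClosedImmersion.of_isPreimmersion _ ?_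
  let Z := pullback P.hom P.hom
  let a : Z ⟶ P.left := pullback.fst _ _
  let b : Z ⟶ P.left := pullback.snd _ _
  let C : Set Z := {z | Z.fromSpecResidueField z ≫ a = Z.fromSpecResidueField z ≫ b}
  have hrange : Set.range (pullback.diagonal P.hom) = C := by
    ext z
    refine ⟨?_, fun hz => ?_⟩
    · rintro ⟨w, rfl⟩
      let r := Spec.map ((pullback.diagonal P.hom).residueFieldMap w)
      haveI : Flat r := HasRingHomProperty.Spec_iff.2 (RingHom.Flat.of_isField (Field.toIsField _) _)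
      haveI : Surjective r := ⟨fun q => ⟨IsLocalRing.closedPoint _, Subsingleton.elim _ _⟩⟩
      haveI := Flat.epi_of_flat_of_surjective r
      refine (cancel_epi r).1 ?_
      simp only [r, a, b]
      rw [← Category.assoc, ← Category.assoc, Scheme.Hom.SpecMap_residueFieldMap_fromSpecResidueField]
      simp
    · have hlift : (Z.fromSpecResidueField z ≫ a) ≫ pullback.diagonal P.hom = Z.fromSpecResidueField z := by
        refine pullback.hom_ext ?_ ?_
        · simp [a]
        · simp only [Category.assoc, pullback.diagonal_snd, Category.comp_id]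
          exact hz
      exact ⟨(Z.fromSpecResidueField z ≫ a) (IsLocalRing.closedPoint _), by
        rw [← Scheme.Hom.comp_apply, hlift, Scheme.fromSpecResidueField_apply]⟩
  rw [hrange, ← isOpen_compl_iff]
  refine isOpen_iff_forall_mem_open.2 fun z hz => ?_
  let T : Over S := Over.mk (a ≫ P.hom)
  let α : T ⟶ P := Over.homMk a rfl
  let β : T ⟶ P := Over.homMk b pullback.condition.symm
  obtain ⟨R₁, hR₁, h₁⟩ := hP.locallySurjective T α
  obtain ⟨ι₁, U₁, u₁, rfl⟩ := R₁.exists_eq_ofArrows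
  obtain ⟨hj₁, hp₁⟩ := (Scheme.ofArrows_mem_precoverage_iff _).1 hR₁
  obtain ⟨k₁, x₁, hx₁⟩ := hj₁ z
  obtain ⟨c₁, hc₁, he₁⟩ := h₁ (u₁ k₁) (Presieve.ofArrows.mk k₁)
  obtain ⟨R₂, hR₂, h₂⟩ := hP.locallySurjective _ (AbDual.ovrHom T (u₁ k₁) ≫ β)
  obtain ⟨ι₂, U₂, u₂, rfl⟩ := R₂.exists_eq_ofArrows
  obtain ⟨hj₂, hp₂⟩ := (Scheme.ofArrows_mem_precoverage_iff _).1 hR₂
  obtain ⟨k₂, x₂, hx₂⟩ := hj₂ x₁
  obtain ⟨c₂, hc₂, he₂⟩ := h₂ (u₂ k₂) (Presieve.ofArrows.mk k₂)
  let g₂ := AbDual.ovrHom (AbDual.ovr T (u₁ k₁)) (u₂ k₂)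
  let T' := AbDual.ovr (AbDual.ovr T (u₁ k₁)) (u₂ k₂)
  let w : T'.left ⟶ Z := u₂ k₂ ≫ u₁ k₁
  obtain ⟨L, rfl, hL⟩ := hc₁
  obtain ⟨M, hMc, hM⟩ := hc₂
  let L' := (Scheme.Modules.pullback (PicF.XTmap f g₂)).obj L
  have hLa : (φ T' (PicF.cl L')).left = w ≫ a := by
    rw [show φ T' (PicF.cl L') = g₂ ≫ φ _ (PicF.cl L) from hP.natural _ _ g₂ _ ⟨L, rfl, hL⟩, he₁]
    exact (Category.assoc _ _ _).symm
  have hMb : (φ T' (PicF.cl M)).left = w ≫ b := by
    rw [hMc, he₂]
    exact (Category.assoc _ _ _).symm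
  haveI : IsProper (pullback.snd f T'.hom) := inferInstance
  haveI : Flat (pullback.snd f T'.hom) := inferInstance
  haveI : LocallyOfFinitePresentation (pullback.snd f T'.hom) :=
    MorphismProperty.pullback_snd _ _ inferInstance
  haveI : GeometricallyIntegral (pullback.snd f T'.hom) := inferInstance
  have hpre : w ⁻¹' C = {t | Nonempty (CohIII.fiberMod (pullback.snd f T'.hom) L' t ≅
      CohIII.fiberMod (pullback.snd f T'.hom) M t)} := by
    ext t
    refine Iff.trans ?_ (point_eq_iff f hP (PicLoc.isInvertible_pullback _ hL) hM t)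
    rw [hLa, hMb]
    let r := Spec.map (w.residueFieldMap t)
    haveI : Flat r := HasRingHomProperty.Spec_iff.2 (RingHom.Flat.of_isField (Field.toIsField _) _)
    haveI : Surjective r := ⟨fun q => ⟨IsLocalRing.closedPoint _, Subsingleton.elim _ _⟩⟩
    haveI := Flat.epi_of_flat_of_surjective r
    change Z.fromSpecResidueField (w t) ≫ a = Z.fromSpecResidueField (w t) ≫ b ↔ _
    rw [← cancel_epi r]
    simp only [r, ← Category.assoc, Scheme.Hom.SpecMap_residueFieldMap_fromSpecResidueField]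
    rfl
  have hopen : IsOpen (w ⁻¹' Cᶜ) := by
    rw [Set.preimage_compl, hpre]
    exact (isClosed_fiber_iso _ (PicLoc.isInvertible_pullback _ hL) hM).isOpen_compl
  haveI : Flat w := by haveI := (hp₂ k₂).1; haveI := (hp₁ k₁).1; infer_instance
  haveI : LocallyOfFinitePresentation w := by haveI := (hp₂ k₂).2; haveI := (hp₁ k₁).2; infer_instance
  refine ⟨w '' (w ⁻¹' Cᶜ), Set.image_preimage_subset _ _, w.isOpenMap _ hopen, x₂, ?_, ?_⟩
  · change w x₂ ∈ Cᶜ
    rw [show w x₂ = z from (congrArg (u₁ k₁) hx₂).trans hx₁]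
    exact hz
  · exact (congrArg (u₁ k₁) hx₂).trans hx₁

end Groth.Agent.PicFam
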